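import Groth.Agent.MonoNhd.Alg
import Groth.Agent.HomTriv.Covers
import Groth.Agent.HomTriv.KeyLft
import Groth.Agent.CentralLoc.Basic
import Groth.Agent.TrivAct.SplitExt
import Groth.Agent.FixedSmooth.CoreLocal
import Groth.Agent.FixedSmooth.Normalizer
/-!
A homomorphism from a group of multiplicative type to a separated group which is a monomorphism at a point is a
monomorphism near that point.
-/

set_option autoImplicit false
set_option backward.isDefEq.respectTransparency false
set_option backward.isDefEq.respectTransparency.types false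
set_option linter.style.haveILetI false

universe u

open CategoryTheory CategoryTheory.Limits MonoidalCategory CartesianMonoidalCategory MonObj AlgebraicGeometry

noncomputable section

namespace Groth.Agent.MonoNhd

open FixedSmooth HomTriv

section Alg

variable {B : CommRingCat.{u}} {M : Type} [AddCommGroup M]

theorem exists_denom (P : PrimeSpectrum B) (J₀ : Ideal (GA B M))
    {x : GA (CommRingCat.of (Localization.AtPrime P.asIdeal)) M}
    (hx : x ∈ J₀.map (gmap (toLoc P) M).hom) :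
    ∃ s : B, s ∉ P.asIdeal ∧ ∃ j ∈ J₀, (gmap (toLoc P) M).hom ((gc B M).hom s) * x = (gmap (toLoc P) M).hom j := by
  have h1 : (1 : B) ∉ P.asIdeal := fun h => P.isPrime.ne_top ((Ideal.eq_top_iff_one _).2 h)
  have hden : ∀ a : GA (CommRingCat.of (Localization.AtPrime P.asIdeal)) M, ∃ s : B, s ∉ P.asIdeal ∧
      ∃ b, (gmap (toLoc P) M).hom ((gc B M).hom s) * a = (gmap (toLoc P) M).hom b := fun a => by
    induction a using MonoidAlgebra.induction_linear with
    | zero => exact ⟨1, h1, 0, by simp⟩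
    | add a a' ha ha' =>
      obtain ⟨s, hs, b, hb⟩ := ha
      obtain ⟨s', hs', b', hb'⟩ := ha'
      refine ⟨s * s', fun h => (P.isPrime.mem_or_mem h).elim hs hs',
        (gc B M).hom s' * b + (gc B M).hom s * b', ?_⟩
      simp only [map_mul, map_add, ← hb, ← hb']
      ring
    | single m r =>
      obtain ⟨⟨b, s, hs⟩, hbs⟩ := IsLocalization.surj P.asIdeal.primeCompl r
      refine ⟨s, hs, MonoidAlgebra.single m b, ?_⟩
      show MonoidAlgebra.mapRingHom _ (toLoc P).hom (MonoidAlgebra.single 1 s) * MonoidAlgebra.single m r =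
        MonoidAlgebra.mapRingHom _ (toLoc P).hom (MonoidAlgebra.single m b)
      rw [MonoidAlgebra.mapRingHom_single, MonoidAlgebra.mapRingHom_single, MonoidAlgebra.single_mul_single,
        _root_.one_mul]
      congr 1
      rw [_root_.mul_comm]
      exact hbs
  refine Submodule.span_induction (fun y hy => ?_) ?_ (fun y z _ _ hy hz => ?_) (fun a y _ hy => ?_) hx
  · obtain ⟨j, hj, rfl⟩ := hy
    exact ⟨1, h1, j, hj, by simp [← MonoidAlgebra.one_def]⟩
  · exact ⟨1, h1, 0, J₀.zero_mem, by simp⟩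
  · obtain ⟨s, hs, j, hj, hy⟩ := hy
    obtain ⟨s', hs', j', hj', hz⟩ := hz
    refine ⟨s * s', fun h => (P.isPrime.mem_or_mem h).elim hs hs', (gc B M).hom s' * j + (gc B M).hom s * j',
      J₀.add_mem (J₀.mul_mem_left _ hj) (J₀.mul_mem_left _ hj'), ?_⟩
    simp only [map_mul, map_add, ← hy, ← hz]
    ring
  · obtain ⟨s, hs, j, hj, hy⟩ := hy
    obtain ⟨s', hs', b, hb⟩ := hden a
    refine ⟨s * s', fun h => (P.isPrime.mem_or_mem h).elim hs hs', b * j, J₀.mul_mem_left _ hj, ?_⟩
    simp only [map_mul, ← hb, ← hy, smul_eq_mul]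
    ring

theorem exists_mul_mem (P : PrimeSpectrum B) (J₀ : Ideal (GA B M)) (y : GA B M)
    (hy : (gmap (toLoc P) M).hom y ∈ J₀.map (gmap (toLoc P) M).hom) :
    ∃ s : B, s ∉ P.asIdeal ∧ (gc B M).hom s * y ∈ J₀ := by
  classical
  obtain ⟨s, hs, j, hj, h⟩ := exists_denom P J₀ hy
  rw [← map_mul] at h
  let d := (gc B M).hom s * y - j
  have hd : (gmap (toLoc P) M).hom d = 0 := by
    show (gmap (toLoc P) M).hom (_ - j) = 0
    rw [map_sub, sub_eq_zero]
    exact h
  have hc : ∀ m, ∃ a, a ∉ P.asIdeal ∧ a * MonoidAlgebra.coeff d m = 0 := fun m => by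
    have h1 := congrArg (fun z => MonoidAlgebra.coeff z m) hd
    simp only [MonoidAlgebra.coeff_zero, Finsupp.coe_zero, Pi.zero_apply] at h1
    obtain ⟨⟨a, ha⟩, ha0⟩ := (IsLocalization.map_eq_zero_iff P.asIdeal.primeCompl (Localization.AtPrime P.asIdeal)
      (MonoidAlgebra.coeff d m)).1 (by simpa using h1)
    exact ⟨a, ha, ha0⟩
  choose a ha ha0 using hc
  let c := ∏ m ∈ d.coeff.support, a m
  refine ⟨c * s, fun hcs => ?_, ?_⟩
  · rcases P.isPrime.mem_or_mem hcs with h' | h'
    · obtain ⟨m, -, hm⟩ := P.isPrime.prod_mem_iff.1 h'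
      exact ha m hm
    · exact hs h'
  · have h0 : (gc B M).hom c * d = 0 := by
      ext m
      show (MonoidAlgebra.single 1 c * d).coeff m = _
      rw [MonoidAlgebra.coeff_single_one_mul, MonoidAlgebra.coeff_zero, Finsupp.coe_zero, Pi.zero_apply]
      by_cases hm : m ∈ d.coeff.support
      · obtain ⟨k, hk⟩ : a m ∣ c := Finset.dvd_prod_of_mem a hm
        rw [hk, _root_.mul_right_comm, ha0, zero_mul]
      · rw [Finsupp.notMem_support_iff.1 hm, mul_zero]
    have e : (gc B M).hom (c * s) * y = (gc B M).hom c * j := by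
      rw [map_mul]
      linear_combination h0
    rw [e]
    exact J₀.mul_mem_left _ hj

end Alg

variable {S : Scheme.{u}} {H G : Over S} [GrpObj H] [GrpObj G]

/-- The kernel is trivial over `t`. -/
def KerTriv (u : H ⟶ G) {T : Scheme.{u}} (t : T ⟶ S) : Prop :=
  ∀ (Y : Over S) (_ : Y ⟶ Over.mk t) (h : Y ⟶ H), h ≫ u = 1 → h = 1

theorem KerTriv.of_comp {u : H ⟶ G} {T T' : Scheme.{u}} {t : T ⟶ S} (hc : KerTriv u t) (k : T' ⟶ T)
    {t' : T' ⟶ S} (hk : k ≫ t = t') : KerTriv u t' := fun Y p h => hc Y (p ≫ Over.homMk k hk) h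

theorem kerTriv_iff_mono (u : H ⟶ G) [IsMonHom u] {T : Scheme.{u}} (t : T ⟶ S) :
    KerTriv u t ↔ Mono ((Over.pullback t).map u).left := by
  constructor
  · intro hk
    haveI : Mono ((Over.pullback t).map u) := ⟨fun {Z} a b hab => by
      obtain ⟨a₀, rfl⟩ := (adjEquiv t H Z).surjective a
      obtain ⟨b₀, rfl⟩ := (adjEquiv t H Z).surjective b
      change (adjEquiv t H Z a₀) ≫ (Over.pullback t).map u = (adjEquiv t H Z b₀) ≫ (Over.pullback t).map u at hab
      rw [← adjEquiv_comp (G := G) t u a₀, ← adjEquiv_comp (G := G) t u b₀] at hab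
      have h1 : (a₀ * b₀⁻¹) ≫ u = 1 := by
        rw [MonObj.mul_comp, GrpObj.inv_comp, (adjEquiv t G Z).injective hab, mul_inv_cancel]
      exact congrArg _ (mul_inv_eq_one.1 (hk _ (Over.homMk Z.hom rfl : (Over.map t).obj Z ⟶ Over.mk t) _ h1))⟩
    exact inferInstanceAs (Mono ((Over.forget T).map ((Over.pullback t).map u)))
  · intro hm Y p h hh
    haveI := hm
    haveI : Mono ((Over.pullback t).map u) := Over.mono_of_mono_left _
    let Y' : Over T := Over.mk p.left
    let e : (Over.map t).obj Y' ≅ Y := Over.isoMk (Iso.refl _) (by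
      show 𝟙 _ ≫ Y.hom = p.left ≫ t
      rw [Category.id_comp]
      exact (Over.w p).symm)
    rw [← cancel_epi e.hom, MonObj.comp_one]
    apply (adjEquiv t H Y').injective
    rw [← cancel_mono ((Over.pullback t).map u), ← adjEquiv_comp (G := G) t u (Y := Y') (e.hom ≫ h),
      ← adjEquiv_comp (G := G) t u (Y := Y') (1 : (Over.map t).obj Y' ⟶ H), Category.assoc, hh, MonObj.comp_one,
      MonObj.one_comp]

theorem fibre_of_residue (u : H ⟶ G) {B : CommRingCat.{u}} (t : Spec B ⟶ S) (P : PrimeSpectrum B)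
    (hc : KerTriv u (Spec.map (CommRingCat.ofHom (algebraMap B P.asIdeal.ResidueField)) ≫ t)) :
    KerTriv u (S.fromSpecResidueField (t P)) := by
  obtain ⟨k, _, _, _, hk⟩ := CentralLoc.exists_residue_factor t P
  intro Y p h hh
  let π : pullback p.left k ⟶ Y.left := pullback.fst p.left k
  haveI : Flat π := MorphismProperty.pullback_fst _ _ ‹Flat k›
  haveI : Surjective π := MorphismProperty.pullback_fst _ _ ‹Surjective k›
  haveI : QuasiCompact π := MorphismProperty.pullback_fst _ _ ‹QuasiCompact k›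
  haveI : Epi π := Flat.epi_of_flat_of_surjective _
  let f : Over.mk (π ≫ Y.hom) ⟶ Y := Over.homMk π rfl
  have hw : pullback.snd p.left k ≫ (Spec.map (CommRingCat.ofHom (algebraMap B P.asIdeal.ResidueField)) ≫ t) =
      π ≫ Y.hom := by
    refine (congrArg (pullback.snd p.left k ≫ ·) hk.symm).trans ?_
    show pullback.snd p.left k ≫ k ≫ _ = _
    rw [← Category.assoc, ← pullback.condition, Category.assoc]
    exact congrArg (π ≫ ·) (Over.w p)
  have h2 := hc _ (Over.homMk (pullback.snd p.left k) hw) (f ≫ h) (by rw [Category.assoc, hh, MonObj.comp_one])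
  rw [← MonObj.comp_one f] at h2
  apply Over.OverMorphism.ext
  rw [← cancel_epi π]
  exact congrArg CommaMorphism.left h2

variable [IsSeparated G.hom] {B : CommRingCat.{u}} {t : Spec B ⟶ S} {M : Type} [AddCommGroup M]

/-- Near a point with trivial kernel the characters are killed by the kernel. -/
theorem exists_kill [AddGroup.FG M] (σ : Split H t M) (u : H ⟶ G) [IsMonHom u] (P : PrimeSpectrum B)
    (hP : KerTriv u (S.fromSpecResidueField (t P))) :
    ∃ f : B, f ∉ P.asIdeal ∧ ∀ {D : CommRingCat.{u}} (g : B ⟶ D) (χ : Multiplicative M →* D),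
      σ.pt D (Spec.map g) χ ≫ u = 1 → ∀ m, g.hom f * (χ m - 1) = 0 := by
  classical
  obtain ⟨J₀, hJ₀, -⟩ := exists_eq_ideal (univ σ ≫ u) 1
  have heval : ∀ {D : CommRingCat.{u}} (g : B ⟶ D) (χ : Multiplicative M →* D),
      J₀ ≤ RingHom.ker (gev g χ).hom ↔ σ.pt D (Spec.map g) χ ≫ u = 1 := fun {D} g χ => by
    let k : Over.mk (Spec.map g ≫ t) ⟶ Over.mk (Spec.map (gc B M) ≫ t) := Over.homMk (Spec.map (gev g χ)) (by
      show Spec.map _ ≫ Spec.map _ ≫ t = _
      rw [← Category.assoc, ← Spec.map_comp]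
      congr 2
      exact CommRingCat.hom_ext (L_comp_single g.hom χ))
    have hk : k ≫ univ σ = σ.pt D (Spec.map g) χ := Over.OverMorphism.ext (pt_left σ g χ).symm
    rw [hJ₀, ← hk]
    refine ⟨fun h => ?_, fun h => ?_⟩
    · rw [Category.assoc, show k ≫ univ σ ≫ u = k ≫ 1 from Over.OverMorphism.ext h, MonObj.comp_one]
    · exact congrArg CommaMorphism.left (((Category.assoc _ _ _).symm.trans h).trans (MonObj.comp_one k).symm)
  let A : CommRingCat.{u} := CommRingCat.of (Localization.AtPrime P.asIdeal)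
  let J : Ideal (GA A M) := J₀.map (gmap (toLoc P) M).hom
  have hpts : ∀ {D : CommRingCat.{u}} (g : A ⟶ D) (χ : Multiplicative M →* D),
      J ≤ RingHom.ker (L g.hom χ) ↔ σ.pt D (Spec.map (toLoc P ≫ g)) χ ≫ u = 1 := fun {D} g χ => by
    rw [← heval, Ideal.map_le_iff_le_comap]
    refine forall₂_congr fun j _ => ?_
    rw [Ideal.mem_comap, RingHom.mem_ker, RingHom.mem_ker]
    show L g.hom χ (MonoidAlgebra.mapRingHom _ (toLoc P).hom j) = 0 ↔ L (toLoc P ≫ g).hom χ j = 0
    rw [← L_map]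
    rfl
  have key := aug_le (A := Localization.AtPrime P.asIdeal) (G := Multiplicative M) J
    ((hpts (𝟙 A) 1).2 (by rw [map_one, MonObj.one_comp]))
    (fun {L'} _ g χ hχ χ' hχ' ψ hψ => by
      have h1 := (hpts (D := CommRingCat.of L') (CommRingCat.ofHom g) χ).1 hχ
      have h2 := (hpts (D := CommRingCat.of L') (CommRingCat.ofHom g) χ').1 hχ'
      refine (hpts (D := CommRingCat.of L') (CommRingCat.ofHom g) ψ).2 ?_
      have h3 : σ.pt (CommRingCat.of L') (Spec.map (toLoc P ≫ CommRingCat.ofHom g)) χ' =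
          σ.pt (CommRingCat.of L') (Spec.map (toLoc P ≫ CommRingCat.ofHom g)) ψ *
            σ.pt (CommRingCat.of L') (Spec.map (toLoc P ≫ CommRingCat.ofHom g)) χ := by
        rw [← map_mul, hψ]
      rw [h3, MonObj.mul_comp, h1, _root_.mul_one] at h2
      exact h2)
    (fun x => by
      let κ : CommRingCat.{u} := CommRingCat.of P.asIdeal.ResidueField
      let q : A ⟶ κ := CommRingCat.ofHom (IsLocalRing.residue (Localization.AtPrime P.asIdeal))
      have hres : toLoc P ≫ q = CommRingCat.ofHom (algebraMap B P.asIdeal.ResidueField) := rfl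
      let Jκ : Ideal (GA κ M) := J.map (gmap q M).hom
      let D : CommRingCat.{u} := CommRingCat.of (GA κ M ⧸ Jκ)
      let jκ : κ ⟶ D := gc κ M ≫ CommRingCat.ofHom (Ideal.Quotient.mk Jκ)
      let χ : Multiplicative M →* D :=
        (Ideal.Quotient.mk Jκ).toMonoidHom.comp (MonoidAlgebra.of κ (Multiplicative M))
      have hL : L (q ≫ jκ).hom χ = (Ideal.Quotient.mk Jκ).comp (gmap q M).hom :=
        MonoidAlgebra.ringHom_ext
          (fun c => by
            show _ = Ideal.Quotient.mk Jκ (MonoidAlgebra.mapRingHom _ q.hom (MonoidAlgebra.single 1 c))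
            rw [MonoidAlgebra.mapRingHom_single, L_single, map_one, _root_.mul_one]
            rfl)
          (fun m => by
            show _ = Ideal.Quotient.mk Jκ (MonoidAlgebra.mapRingHom _ q.hom (MonoidAlgebra.single m 1))
            rw [MonoidAlgebra.mapRingHom_single, L_single, map_one, map_one, _root_.one_mul]
            rfl)
      have h1 : σ.pt D (Spec.map (toLoc P ≫ q ≫ jκ)) χ ≫ u = 1 := (hpts (q ≫ jκ) χ).1 fun j hj => by
        rw [RingHom.mem_ker, hL]
        exact Ideal.Quotient.eq_zero_iff_mem.2 (Ideal.mem_map_of_mem _ hj)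
      obtain ⟨k, -, -, -, hk⟩ := CentralLoc.exists_residue_factor t P
      have h2 := hP _ (Over.homMk (Spec.map jκ ≫ k) (by
        show (Spec.map jκ ≫ k) ≫ S.fromSpecResidueField (t P) = Spec.map (toLoc P ≫ q ≫ jκ) ≫ t
        rw [Category.assoc, hk, ← hres, ← Category.assoc, ← Spec.map_comp]
        simp) : Over.mk (Spec.map (toLoc P ≫ q ≫ jκ) ≫ t) ⟶ _) _ h1
      have hχ1 : χ = 1 := (σ.pt D _).injective (h2.trans (map_one _).symm)
      have hx : (gmap q M).hom (MonoidAlgebra.single x 1 - 1) ∈ Jκ := by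
        refine Ideal.Quotient.eq_zero_iff_mem.1 ?_
        have h3 : χ x = 1 := by rw [hχ1]; rfl
        simp only [map_sub, map_one]
        rw [sub_eq_zero, ← h3]
        simp [χ] <;> rfl
      have hsurj : Function.Surjective (gmap q M).hom := mapRingHom_surjective _ IsLocalRing.residue_surjective
      rw [← Ideal.mem_comap, Ideal.comap_map_of_surjective' _ hsurj] at hx
      refine (sup_le_sup_left ?_ J) hx
      intro z hz
      refine mem_map_of_coeff fun m => ?_
      have h4 := congrArg (fun y => MonoidAlgebra.coeff y m) (RingHom.mem_ker.1 hz)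
      simp only [MonoidAlgebra.coeff_zero, Finsupp.coe_zero, Pi.zero_apply] at h4
      refine Ideal.Quotient.eq_zero_iff_mem.1 (Eq.trans ?_ h4)
      simp
      rfl)
  obtain ⟨gens, hgens⟩ := aug_fg (A := (B : Type u)) (G := Multiplicative M)
  have hkill : ∀ y ∈ gens, ∃ s, s ∉ P.asIdeal ∧ (gc B M).hom s * y ∈ J₀ := fun y hy => by
    refine exists_mul_mem P J₀ y ?_
    have hy' : y ∈ (aug : Ideal (GA B M)) := hgens ▸ Ideal.subset_span hy
    have h1 : ((aug : Ideal (GA B M))).map (gmap (toLoc P) M).hom ≤ J := by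
      rw [aug, Ideal.map_span, Ideal.span_le]
      rintro _ ⟨_, ⟨m, rfl⟩, rfl⟩
      have := key m
      simpa [J] using this
    exact h1 (Ideal.mem_map_of_mem _ hy')
  choose! s hs hsy using hkill
  refine ⟨∏ y ∈ gens, s y, fun h => ?_, fun {D} g χ hχ m => ?_⟩
  · obtain ⟨y, hy, hy'⟩ := P.isPrime.prod_mem_iff.1 h
    exact hs y hy hy'
  · have hJ := (heval g χ).2 hχ
    have hmem : (gc B M).hom (∏ y ∈ gens, s y) * (MonoidAlgebra.single m 1 - 1) ∈ J₀ := by
      have hm : (MonoidAlgebra.single m 1 : GA B M) - 1 ∈ Ideal.span (gens : Set (GA B M)) :=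
        hgens.symm ▸ sub_one_mem_aug m
      refine Submodule.span_induction (p := fun z _ => (gc B M).hom (∏ y ∈ gens, s y) * z ∈ J₀)
        (fun z hz => ?_) (by simp) (fun _ _ _ _ h1 h2 => by rw [mul_add]; exact J₀.add_mem h1 h2)
        (fun a z _ hz => by rw [smul_eq_mul, mul_left_comm]; exact J₀.mul_mem_left a hz) hm
      obtain ⟨k, hk⟩ : s z ∣ ∏ y ∈ gens, s y := Finset.dvd_prod_of_mem s hz
      rw [hk, _root_.mul_comm (s z), map_mul, _root_.mul_assoc]
      exact J₀.mul_mem_left _ (hsy z hz)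
    have h5 := RingHom.mem_ker.1 (hJ hmem)
    simpa using h5

theorem exists_open (hH : SGA3x.IsMultTypeFT H) (u : H ⟶ G) [IsMonHom u] :
    ∃ U : S.Opens, (∀ s : S, s ∈ U ↔ KerTriv u (S.fromSpecResidueField s)) ∧ KerTriv u U.ι := by
  have hcov : HasSplitCoversFG H := hasSplitCoversFG_of_isMultTypeFT hH
  let E : Set S := {s | KerTriv u (S.fromSpecResidueField s)}
  have hopen : IsOpen E := by
    refine isOpen_iff_forall_mem_open.2 fun x hx => ?_
    obtain ⟨V, hV, hxV, -⟩ := exists_isAffineOpen_mem_and_subset (x := x) (U := ⊤) trivial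
    obtain ⟨κ, _, B, g, hfl, hsur, hsp⟩ := hcov.exists_over V hV
    haveI : IsAffine V.toScheme := hV
    haveI : IsAffine (∐ fun i => Spec (B i)) := inferInstance
    haveI : Flat (Sigma.desc g) := by
      haveI : IsZariskiLocalAtSource (@Flat.{u}) :=
        HasRingHomProperty.instIsZariskiLocalAtSource.{u} (Q := RingHom.Flat)
      exact IsZariskiLocalAtSource.sigmaDesc hfl
    haveI : Surjective (Sigma.desc g) := ⟨fun z => by
      obtain ⟨i, a, ha⟩ := hsur z
      exact ⟨Sigma.ι (fun i => Spec (B i)) i a, by erw [← Scheme.Hom.comp_apply, Sigma.ι_desc]; exact ha⟩⟩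
    have hop : IsOpen (V.ι ⁻¹' E) := by
      rw [← (Flat.isQuotientMap_of_surjective (Sigma.desc g)).isOpen_preimage]
      have : (Sigma.desc g) ⁻¹' (V.ι ⁻¹' E) =
          ⋃ i, (Sigma.ι (fun i => Spec (B i)) i) '' ((g i ≫ V.ι) ⁻¹' E) := by
        ext z
        constructor
        · intro hz
          obtain ⟨⟨i, a⟩, rfl⟩ := (sigmaMk (fun i => Spec (B i))).surjective z
          refine Set.mem_iUnion.2 ⟨i, a, ?_, (sigmaMk_mk (fun i => Spec (B i)) i a).symm⟩
          simp only [Set.mem_preimage, sigmaMk_mk, ← Scheme.Hom.comp_apply] at hz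
          erw [Sigma.ι_desc] at hz
          simpa using hz
        · rintro hz
          obtain ⟨i, a, ha, rfl⟩ := Set.mem_iUnion.1 hz
          simp only [Set.mem_preimage, ← Scheme.Hom.comp_apply]
          erw [Sigma.ι_desc]
          simpa using ha
      rw [this]
      refine isOpen_iUnion fun i => (Sigma.ι (fun i => Spec (B i)) i).isOpenEmbedding.isOpenMap _ ?_
      obtain ⟨M, _, hM, ⟨σ⟩⟩ := hsp i
      refine isOpen_iff_forall_mem_open.2 fun P hP => ?_
      obtain ⟨f, hf, hfk⟩ := exists_kill σ u P hP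
      refine ⟨(PrimeSpectrum.basicOpen f : Set (PrimeSpectrum (B i))), fun P' hP' => ?_,
        (PrimeSpectrum.basicOpen f).2, hf⟩
      refine fibre_of_residue u (g i ≫ V.ι) P' fun Y p h hh => hom_ext_affine _ _ fun D p₀ w => ?_
      obtain ⟨e, he⟩ := Spec.map_surjective (w ≫ p).left
      let r : B i ⟶ CommRingCat.of (P' : PrimeSpectrum (B i)).asIdeal.ResidueField :=
        CommRingCat.ofHom (algebraMap (B i) (P' : PrimeSpectrum (B i)).asIdeal.ResidueField)
      have hp : p₀ = Spec.map (r ≫ e) ≫ g i ≫ V.ι := by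
        rw [Spec.map_comp, he, Category.assoc]
        exact (Over.w (w ≫ p)).symm
      subst hp
      obtain ⟨χ, hχ⟩ := (σ.pt D (Spec.map (r ≫ e))).surjective (w ≫ h)
      have h1 := hfk (r ≫ e) χ (by rw [hχ, Category.assoc, hh, MonObj.comp_one])
      have hu : IsUnit ((r ≫ e).hom f) :=
        (IsUnit.mk0 _ (mt Ideal.algebraMap_residueField_eq_zero.1 hP')).map e.hom
      have hχ1 : χ = 1 := MonoidHom.ext fun m => sub_eq_zero.1 (hu.mul_right_eq_zero.1 (h1 m))
      rw [MonObj.comp_one, ← hχ, hχ1, map_one]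
    exact ⟨V.ι '' (V.ι ⁻¹' E), Set.image_preimage_subset _ _, V.ι.isOpenEmbedding.isOpenMap _ hop,
      ⟨⟨x, hxV⟩, hx, rfl⟩⟩
  let U₀ : S.Opens := ⟨E, hopen⟩
  refine ⟨U₀, fun _ => Iff.rfl, fun Y p h hh => ?_⟩
  refine TrivAct.ext_of_split hcov.hasSplitCovers fun B q M _ σ₀ w => ?_
  -- split once more to get finitely generated characters
  refine hom_ext_affine _ _ fun D p₀ v => Over.OverMorphism.ext (Scheme.hom_ext_of_forall _ _ fun z => ?_)
  obtain ⟨V, hV, hzV, -⟩ := exists_isAffineOpen_mem_and_subset (x := p₀ z) (U := ⊤) trivial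
  obtain ⟨Dz, hDz, hzD, hDV⟩ := exists_isAffineOpen_mem_and_subset (x := (z : Spec D)) (U := p₀ ⁻¹ᵁ V) hzV
  refine ⟨Dz, hzD, ?_⟩
  haveI : IsAffine V.toScheme := hV
  haveI : IsAffine Dz.toScheme := hDz
  obtain ⟨κ, _, Bs, g, hfl, hsur, hsp⟩ := hcov.exists_over V hV
  let r : Dz.toScheme ⟶ V.toScheme := p₀.resLE V Dz hDV
  haveI := hfl
  let f : ∀ i, pullback (g i) r ⟶ Dz.toScheme := fun i => pullback.snd (g i) r
  haveI : ∀ i, IsAffine (pullback (g i) r) := fun i => inferInstance
  haveI : Flat (Sigma.desc f) := by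
    haveI : IsZariskiLocalAtSource (@Flat.{u}) :=
      HasRingHomProperty.instIsZariskiLocalAtSource.{u} (Q := RingHom.Flat)
    exact IsZariskiLocalAtSource.sigmaDesc fun i => inferInstance
  haveI : Surjective (Sigma.desc f) := ⟨fun y => by
    obtain ⟨i, a, ha⟩ := hsur (r y)
    obtain ⟨a', -, ha'⟩ := Scheme.Pullback.exists_preimage_pullback a y ha
    refine ⟨Sigma.ι (fun i => pullback (g i) r) i a', ?_⟩
    erw [← Scheme.Hom.comp_apply, Sigma.ι_desc]
    exact ha'⟩
  haveI : Epi (Sigma.desc f) := Flat.epi_of_flat_of_surjective _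
  refine (cancel_epi (Sigma.desc f)).1 (Sigma.hom_ext _ _ fun i => ?_)
  rw [← Category.assoc, ← Category.assoc, Sigma.ι_desc]
  obtain ⟨N, _, hN, ⟨σ⟩⟩ := hsp i
  let Q := pullback (g i) r
  let t : Spec Γ(Q, ⊤) ⟶ S := (Q.isoSpec.inv ≫ pullback.fst (g i) r) ≫ g i ≫ V.ι
  let c : Spec Γ(Q, ⊤) ⟶ Spec D := Q.isoSpec.inv ≫ f i ≫ Dz.ι
  have hc : c ≫ p₀ = t := by
    simp only [c, t, f, Category.assoc, ← Scheme.Hom.resLE_comp_ι p₀ hDV]
    rw [← pullback.condition_assoc]
  let e : Over.mk t ⟶ Over.mk q := (Over.homMk c hc : Over.mk t ⟶ Over.mk p₀) ≫ v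
  let τ : Split H t N := σ.comp (Q.isoSpec.inv ≫ pullback.fst (g i) r) rfl
  have hall : ∀ P : Spec Γ(Q, ⊤), KerTriv u (S.fromSpecResidueField (t P)) := fun P => by
    have : t P ∈ E := by
      have h' : t = (e ≫ w ≫ p).left ≫ U₀.ι := (Over.w (e ≫ w ≫ p)).symm
      rw [h', Scheme.Hom.comp_apply]
      exact ((e ≫ w ≫ p).left P).2
    exact this
  choose a ha hak using fun P => exists_kill τ u P (hall P)
  have hspan : Ideal.span (Set.range a) = ⊤ := by
    by_contra hne
    obtain ⟨m, hm, hle⟩ := Ideal.exists_le_maximal _ hne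
    exact ha ⟨m, hm.isPrime⟩ (hle (Ideal.subset_span ⟨⟨m, hm.isPrime⟩, rfl⟩))
  let j : Over.mk (Spec.map (𝟙 Γ(Q, ⊤)) ≫ t) ⟶ Over.mk t := Over.homMk (Spec.map (𝟙 _)) rfl
  obtain ⟨χ, hχ⟩ := (τ.pt _ (Spec.map (𝟙 Γ(Q, ⊤)))).surjective (j ≫ e ≫ w ≫ h)
  have hχ1 : χ = 1 := MonoidHom.ext fun m => by
    refine sub_eq_zero.1 ?_
    have hann : ∀ x ∈ Ideal.span (Set.range a), x * (χ m - 1) = 0 := fun x hx => by
      induction hx using Submodule.span_induction with
      | mem y hy =>
        obtain ⟨P, rfl⟩ := hy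
        exact hak P (𝟙 _) χ (by rw [hχ]; simp only [Category.assoc, hh, MonObj.comp_one]) m
      | zero => exact zero_mul _
      | add y z _ _ hy hz => rw [add_mul, hy, hz, add_zero]
      | smul b y _ hy => rw [smul_eq_mul, _root_.mul_assoc, hy, mul_zero]
    simpa using hann 1 (hspan ▸ Submodule.mem_top)
  rw [hχ1, map_one, ← MonObj.comp_one j] at hχ
  have key : e ≫ w ≫ h = 1 := by
    haveI : IsIso j.left := inferInstanceAs (IsIso (Spec.map _))
    haveI : Epi j := Over.epi_of_epi_left j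
    exact (cancel_epi j).1 hχ.symm
  have hw1 : e ≫ w ≫ h = e ≫ w ≫ 1 := by rw [key, MonObj.comp_one, MonObj.comp_one]
  have key' := congrArg CommaMorphism.left hw1
  rw [← cancel_epi Q.isoSpec.inv]
  simp only [e, c, Over.comp_left, Category.assoc, Over.homMk_left, Sigma.ι_desc_assoc] at key' ⊢
  exact key'

theorem exists_nhd_mono (hH : SGA3x.IsMultTypeFT H) (u : H ⟶ G) [IsMonHom u] (s : S)
    (hs : Mono ((Over.pullback (S.fromSpecResidueField s)).map u).left) :
    ∃ U : S.Opens, s ∈ U ∧ Mono ((Over.pullback U.ι).map u).left := by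
  obtain ⟨U, h1, h2⟩ := exists_open hH u
  exact ⟨U, (h1 s).2 ((kerTriv_iff_mono u _).2 hs), (kerTriv_iff_mono u _).1 h2⟩

end Groth.Agent.MonoNhd
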