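import Groth.Agent.TrivAct.LocalAct
/-!
A closed subgroup of a diagonalisable group over a local ring with trivial special fibre is trivial.
-/

set_option autoImplicit false

universe u

noncomputable section

namespace Groth.Agent.MonoNhd

open MonoidAlgebra Groth.Agent.FixedSmooth

variable {A : Type u} [CommRing A] {G : Type} [CommGroup G]

/-- The augmentation ideal. -/
def aug : Ideal (MonoidAlgebra A G) := Ideal.span (Set.range fun g : G => (single g 1 : MonoidAlgebra A G) - 1)

theorem sub_one_mem_aug (g : G) : (single g 1 : MonoidAlgebra A G) - 1 ∈ (aug : Ideal (MonoidAlgebra A G)) :=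
  Ideal.subset_span ⟨g, rfl⟩

theorem single_sub_mem_aug (g : G) (a : A) :
    (single g a : MonoidAlgebra A G) - single 1 a ∈ (aug : Ideal (MonoidAlgebra A G)) := by
  have : (single g a : MonoidAlgebra A G) - single 1 a = single 1 a * (single g 1 - 1) := by
    rw [mul_sub, mul_one, single_mul_single, one_mul, mul_one]
  rw [this]
  exact Ideal.mul_mem_left _ _ (sub_one_mem_aug g)

theorem aug_fg [Group.FG G] : (aug : Ideal (MonoidAlgebra A G)).FG := by
  classical
  obtain ⟨s, hs⟩ := (Group.fg_def (G := G)).1 inferInstance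
  refine ⟨s.image fun g => (single g 1 : MonoidAlgebra A G) - 1, le_antisymm ?_ ?_⟩
  · refine Ideal.span_le.2 ?_
    intro x hx
    obtain ⟨g, -, rfl⟩ := Finset.mem_image.1 hx
    exact sub_one_mem_aug g
  refine Ideal.span_le.2 ?_
  rintro _ ⟨g, rfl⟩
  let I : Ideal (MonoidAlgebra A G) := Ideal.span ↑(s.image fun g => (single g 1 : MonoidAlgebra A G) - 1)
  show (single g 1 : MonoidAlgebra A G) - 1 ∈ I
  have hg : g ∈ Subgroup.closure (s : Set G) := hs ▸ Subgroup.mem_top g
  induction hg using Subgroup.closure_induction with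
  | mem x hx => exact Ideal.subset_span (Finset.mem_image_of_mem _ hx)
  | one => rw [← one_def, sub_self]; exact I.zero_mem
  | mul x y _ _ hx hy =>
    have : (single (x * y) 1 : MonoidAlgebra A G) - 1 =
        single x 1 * (single y 1 - 1) + (single x 1 - 1) := by
      rw [mul_sub, mul_one, single_mul_single, mul_one]; ring
    rw [this]
    exact I.add_mem (I.mul_mem_left _ hy) hx
  | inv x _ hx =>
    have : (single x⁻¹ 1 : MonoidAlgebra A G) - 1 = -(single x⁻¹ 1 * (single x 1 - 1)) := by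
      rw [mul_sub, mul_one, single_mul_single, mul_one, inv_mul_cancel, ← one_def]; ring
    rw [this]
    exact I.neg_mem (I.mul_mem_left _ hx)

variable {L : Type u} [Field L]

/-- The points of a field at which an ideal vanishes. -/
def pts (g : A →+* L) (J : Ideal (MonoidAlgebra A G)) : Set (G →* L) := {χ | J ≤ RingHom.ker (FixedSmooth.L g χ)}

theorem finite_pts [IsAlgClosed L] [Group.FG G] (g : A →+* L) (J : Ideal (MonoidAlgebra A G))
    (hinv : ∀ χ ∈ pts g J, ∀ χ' ∈ pts g J, ∀ ψ : G →* L, ψ * χ = χ' → ψ ∈ pts g J)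
    (w : MonoidAlgebra A G) (hw : FixedSmooth.L g 1 w ≠ 0)
    (hwJ : ∀ x : G, w * (single x 1 - 1) ∈ J) : (pts g J).Finite := by
  classical
  let gL : A →+* MonoidAlgebra L G := (singleOneRingHom : L →+* MonoidAlgebra L G).comp g
  let JL : Ideal (MonoidAlgebra L G) := J.map (mapRingHom G g)
  let τ : (G →* L) → MonoidAlgebra L G := fun χ =>
    FixedSmooth.L gL (((singleOneRingHom : L →+* MonoidAlgebra L G).toMonoidHom.comp
      (χ.comp (MulEquiv.inv G).toMonoidHom)) * of L G) w
  have hτ : ∀ χ ψ : G →* L, FixedSmooth.L (RingHom.id L) ψ (τ χ) =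
      FixedSmooth.L g (χ.comp (MulEquiv.inv G).toMonoidHom * ψ) w := fun χ ψ => by
    show ((FixedSmooth.L (RingHom.id L) ψ).comp (FixedSmooth.L gL _)) w = _
    rw [comp_L]
    refine RingHom.congr_fun (MonoidAlgebra.ringHom_ext (fun c => ?_) (fun m => ?_)) w <;> simp [gL]
  have hmul : ∀ χ : G →* L, χ.comp (MulEquiv.inv G).toMonoidHom * χ = 1 := fun χ => MonoidHom.ext fun x => by
    show χ x⁻¹ * χ x = 1
    rw [← map_mul, inv_mul_cancel, map_one]
  have htop : JL ⊔ Ideal.span (τ '' pts g J) = ⊤ := by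
    by_contra hne
    obtain ⟨𝔪, h𝔪, hle⟩ := Ideal.exists_le_maximal _ hne
    letI : Field (MonoidAlgebra L G ⧸ 𝔪) := Ideal.Quotient.field 𝔪
    haveI : Algebra.FiniteType L (MonoidAlgebra L G ⧸ 𝔪) := inferInstance
    haveI : Module.Finite L (MonoidAlgebra L G ⧸ 𝔪) := finite_of_finite_type_of_isJacobsonRing L _
    have hbij : Function.Bijective (algebraMap L (MonoidAlgebra L G ⧸ 𝔪)) :=
      IsAlgClosed.algebraMap_bijective_of_isIntegral (k := L) (K := MonoidAlgebra L G ⧸ 𝔪)
    let e : L ≃+* (MonoidAlgebra L G ⧸ 𝔪) := RingEquiv.ofBijective _ hbij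
    let π : MonoidAlgebra L G →+* L := e.symm.toRingHom.comp (Ideal.Quotient.mk 𝔪)
    let ψ : G →* L := π.toMonoidHom.comp (of L G)
    have hπ : π = FixedSmooth.L (RingHom.id L) ψ := by
      refine MonoidAlgebra.ringHom_ext (fun c => ?_) (fun m => by simp [ψ])
      show e.symm (Ideal.Quotient.mk 𝔪 (single 1 c)) = _
      rw [FixedSmooth.L_single, map_one, mul_one, RingEquiv.symm_apply_eq]
      rfl
    have hker : ∀ x ∈ 𝔪, π x = 0 := fun x hx => by
      show e.symm (Ideal.Quotient.mk 𝔪 x) = 0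
      rw [Ideal.Quotient.eq_zero_iff_mem.2 hx, map_zero]
    have hψ : ψ ∈ pts g J := fun j hj => by
      have h1 := hker _ (hle (Submodule.mem_sup_left (Ideal.mem_map_of_mem (mapRingHom G g) hj)))
      rw [hπ, ← L_map, RingHom.id_comp] at h1
      exact h1
    have h2 := hker _ (hle (Submodule.mem_sup_right (Ideal.subset_span ⟨ψ, hψ, rfl⟩)))
    rw [hπ, hτ, hmul] at h2
    exact hw h2
  obtain ⟨a, ha, b, hb, hab⟩ := Submodule.mem_sup.1 (htop ▸ Submodule.mem_top : (1 : MonoidAlgebra L G) ∈ _)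
  obtain ⟨s, hs, hbs⟩ := Submodule.mem_span_finite_of_mem_span hb
  have hs' : ∀ y ∈ s, ∃ χ ∈ pts g J, τ χ = y := fun y hy => hs hy
  choose! χ hχ hχy using hs'
  refine (s.image χ).finite_toSet.subset fun ψ hψ => ?_
  by_contra hne
  have ha0 : FixedSmooth.L (RingHom.id L) ψ a = 0 := by
    have : JL ≤ RingHom.ker (FixedSmooth.L (RingHom.id L) ψ) := Ideal.map_le_iff_le_comap.2 fun j hj => by
      rw [Ideal.mem_comap, RingHom.mem_ker, ← L_map, RingHom.id_comp]
      exact hψ hj
    exact this ha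
  have hb0 : FixedSmooth.L (RingHom.id L) ψ b = 0 := by
    have : Submodule.span (MonoidAlgebra L G) (s : Set (MonoidAlgebra L G)) ≤
        RingHom.ker (FixedSmooth.L (RingHom.id L) ψ) := Ideal.span_le.2 fun y hy => by
      show FixedSmooth.L (RingHom.id L) ψ y = 0
      rw [← hχy y hy, hτ]
      by_contra hy0
      let ρ : G →* L := (χ y).comp (MulEquiv.inv G).toMonoidHom * ψ
      have hρJ : ρ ∈ pts g J := hinv (χ y) (hχ y hy) ψ hψ ρ (by
        show (χ y).comp _ * ψ * χ y = ψ
        rw [mul_right_comm, hmul, one_mul])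
      have hρ : ρ = 1 := MonoidHom.ext fun x => by
        have h := RingHom.mem_ker.1 (hρJ (hwJ x))
        rw [map_mul, map_sub, map_one, FixedSmooth.L_single, map_one, one_mul] at h
        exact sub_eq_zero.1 ((mul_eq_zero.1 h).resolve_left hy0)
      refine hne (Finset.mem_image.2 ⟨y, hy, ?_⟩)
      have : χ y * ρ = ψ := by
        show χ y * ((χ y).comp _ * ψ) = ψ
        rw [← mul_assoc, mul_comm (χ y), hmul, one_mul]
      rwa [hρ, mul_one] at this
    exact this hbs
  have h1 := congrArg (FixedSmooth.L (RingHom.id L) ψ) hab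
  rw [map_add, ha0, hb0, map_one, add_zero] at h1
  exact zero_ne_one h1

/-- A closed subgroup of `D(G)` over a local ring whose special fibre is trivial is trivial. -/
theorem aug_le [IsLocalRing A] [Group.FG G] (J : Ideal (MonoidAlgebra A G))
    (hε : J ≤ RingHom.ker (FixedSmooth.L (RingHom.id A) (1 : G →* A)))
    (hsub : ∀ {L : Type u} [Field L] (g : A →+* L),
      ∀ χ ∈ pts g J, ∀ χ' ∈ pts g J, ∀ ψ : G →* L, ψ * χ = χ' → ψ ∈ pts g J)
    (htriv : ∀ x : G, (single x 1 : MonoidAlgebra A G) - 1 ∈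
      J ⊔ (IsLocalRing.maximalIdeal A).map (singleOneRingHom : A →+* MonoidAlgebra A G)) :
    ∀ x : G, (single x 1 : MonoidAlgebra A G) - 1 ∈ J := by
  classical
  let mA : Ideal (MonoidAlgebra A G) := (IsLocalRing.maximalIdeal A).map singleOneRingHom
  let I : Ideal (MonoidAlgebra A G) := aug
  let ε : MonoidAlgebra A G →+* A := FixedSmooth.L (RingHom.id A) (1 : G →* A)
  have hεI : ∀ i ∈ I, ε i = 0 := fun i hi => by
    refine RingHom.mem_ker.1 ((Ideal.span_le.2 ?_ : I ≤ RingHom.ker ε) hi)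
    rintro _ ⟨x, rfl⟩
    simp [ε]
  have hretr : ∀ p : MonoidAlgebra A G, p - single 1 (ε p) ∈ I := fun p => by
    induction p using MonoidAlgebra.induction_linear with
    | zero => simp
    | add a b ha hb =>
      have : a + b - single 1 (ε (a + b)) = (a - single 1 (ε a)) + (b - single 1 (ε b)) := by
        rw [map_add, single_add]; ring
      rw [this]; exact I.add_mem ha hb
    | single x r => simpa [ε] using single_sub_mem_aug x r
  have hretrm : ∀ p ∈ mA, p - single 1 (ε p) ∈ mA * I := by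
    intro p hp
    refine Submodule.span_induction (fun x hx => ?_) ?_ (fun x y _ _ hx hy => ?_) (fun a x hx' hx => ?_) hp
    · obtain ⟨r, hr, rfl⟩ := hx
      simp [ε]
    · simp
    · have : x + y - single 1 (ε (x + y)) = (x - single 1 (ε x)) + (y - single 1 (ε y)) := by
        rw [map_add, single_add]; ring
      rw [this]; exact add_mem hx hy
    · have : a • x - single 1 (ε (a • x)) = a * (x - single 1 (ε x)) + single 1 (ε x) * (a - single 1 (ε a)) := by
        rw [smul_eq_mul, map_mul, mul_sub, mul_sub, single_mul_single, one_mul, mul_comm (ε a) (ε x)]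
        ring
      rw [this]
      refine add_mem (Ideal.mul_mem_left _ _ hx) (Ideal.mul_mem_mul ?_ (hretr a))
      have hεx : ε x ∈ IsLocalRing.maximalIdeal A := by
        have h1 : mA.map ε ≤ IsLocalRing.maximalIdeal A := by
          rw [Ideal.map_map, show ε.comp singleOneRingHom = RingHom.id A from L_comp_single _ _, Ideal.map_id]
        exact h1 (Ideal.mem_map_of_mem ε hx')
      exact Ideal.mem_map_of_mem _ hεx
  have hIle : I ≤ J ⊔ mA * I := Ideal.span_le.2 (by
    rintro _ ⟨x, rfl⟩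
    obtain ⟨j, hj, p, hp, hjp⟩ := Submodule.mem_sup.1 (htriv x)
    have hp0 : ε p = 0 := by
      have h1 := congrArg ε hjp
      rw [map_add, RingHom.mem_ker.1 (hε hj), zero_add, hεI _ (sub_one_mem_aug x)] at h1
      exact h1
    show (single x 1 : MonoidAlgebra A G) - 1 ∈ J ⊔ mA * I
    rw [← hjp]
    refine Submodule.add_mem_sup hj ?_
    simpa [hp0] using hretrm p hp)
  -- Nakayama
  let qJ := Ideal.Quotient.mk J
  obtain ⟨r, hr, hr'⟩ := Submodule.exists_mem_and_smul_eq_self_of_fg_of_le_smul (mA.map qJ) (I.map qJ)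
    ((aug_fg (A := A) (G := G)).map qJ) (by
      rw [smul_eq_mul, ← Ideal.map_mul, Ideal.map_le_iff_le_comap, Ideal.comap_map_of_surjective' _ Ideal.Quotient.mk_surjective,
        Ideal.mk_ker, sup_comm]
      exact hIle)
  obtain ⟨r₀, hr₀, rfl⟩ := (Ideal.mem_map_iff_of_surjective qJ Ideal.Quotient.mk_surjective).1 hr
  let w : MonoidAlgebra A G := 1 - r₀
  have hwJ : ∀ i ∈ I, w * i ∈ J := fun i hi => by
    have h := hr' (qJ i) (Ideal.mem_map_of_mem _ hi)
    rw [smul_eq_mul, ← map_mul] at h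
    have : w * i = i - r₀ * i := by simp only [w]; ring
    rw [this]
    exact Ideal.Quotient.eq.1 h.symm
  suffices hw : IsUnit (qJ w) by
    intro x
    obtain ⟨v, hv⟩ := hw
    refine Ideal.Quotient.eq_zero_iff_mem.1 ?_
    have h0 : qJ (w * (single x 1 - 1)) = 0 := Ideal.Quotient.eq_zero_iff_mem.2 (hwJ _ (sub_one_mem_aug x))
    rw [map_mul, ← hv] at h0
    exact v.isUnit.mul_right_eq_zero.1 h0
  by_contra hnu
  obtain ⟨𝔫, h𝔫, hw𝔫⟩ := exists_max_ideal_of_mem_nonunits hnu
  let F := (MonoidAlgebra A G ⧸ J) ⧸ 𝔫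
  letI : Field F := Ideal.Quotient.field 𝔫
  let L := AlgebraicClosure F
  let π : MonoidAlgebra A G →+* L := (algebraMap F L).comp ((Ideal.Quotient.mk 𝔫).comp qJ)
  let g : A →+* L := π.comp singleOneRingHom
  let χ : G →* L := π.toMonoidHom.comp (of A G)
  have hπ : π = FixedSmooth.L g χ := MonoidAlgebra.ringHom_ext (fun c => by simp [g, χ, ← one_def]) (fun m => by simp [g, χ, ← one_def])
  have hχ : χ ∈ pts g J := fun j hj => by
    rw [RingHom.mem_ker, ← hπ]
    show algebraMap F L (Ideal.Quotient.mk 𝔫 (qJ j)) = 0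
    rw [Ideal.Quotient.eq_zero_iff_mem.2 hj, map_zero, map_zero]
  have hwχ : FixedSmooth.L g χ w = 0 := by
    rw [← hπ]
    show algebraMap F L (Ideal.Quotient.mk 𝔫 (qJ w)) = 0
    rw [Ideal.Quotient.eq_zero_iff_mem.2 hw𝔫, map_zero]
  have hw1 : IsUnit (ε w) := by
    have h : ε r₀ ∈ IsLocalRing.maximalIdeal A := by
      have h1 : mA.map ε ≤ IsLocalRing.maximalIdeal A := by
        rw [Ideal.map_map, show ε.comp singleOneRingHom = RingHom.id A from L_comp_single _ _, Ideal.map_id]
      exact h1 (Ideal.mem_map_of_mem ε hr₀)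
    rw [map_sub, map_one]
    exact IsLocalRing.isUnit_one_sub_self_of_mem_nonunits _ ((IsLocalRing.mem_maximalIdeal _).1 h)
  have hwg : FixedSmooth.L g 1 w ≠ 0 := by
    have e : FixedSmooth.L g 1 = g.comp ε := MonoidAlgebra.ringHom_ext (fun c => by simp [ε]) (fun m => by simp [ε])
    rw [e]
    exact (hw1.map g).ne_zero
  have hfin := finite_pts g J (hsub g) w hwg fun x => hwJ _ (sub_one_mem_aug x)
  have hone : (1 : G →* L) ∈ pts g J := hsub g χ hχ χ hχ 1 (one_mul χ)
  have hpow : ∀ n : ℕ, χ ^ n ∈ pts g J := by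
    intro n
    induction n with
    | zero => simpa using hone
    | succ n ih =>
      let χi : G →* L := χ.comp (MulEquiv.inv G).toMonoidHom
      have hi : χi * χ = 1 := MonoidHom.ext fun x => by
        show χ x⁻¹ * χ x = 1
        rw [← map_mul, inv_mul_cancel, map_one]
      have hχi : χi ∈ pts g J := hsub g χ hχ 1 hone χi hi
      exact hsub g χi hχi (χ ^ n) ih (χ ^ (n + 1)) (by rw [pow_succ, mul_assoc, mul_comm χ, hi, mul_one])
  obtain ⟨a, -, b, -, hab, heq⟩ := Set.infinite_univ.exists_ne_map_eq_of_mapsTo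
    (f := fun n : ℕ => χ ^ n) (fun n _ => hpow n) hfin
  wlog hlt : a < b generalizing a b with H
  · exact H b a hab.symm heq.symm (lt_of_le_of_ne (not_lt.1 hlt) hab.symm)
  have hk : ∀ x : G, χ x ^ (b - a) = 1 := fun x => by
    have h := DFunLike.congr_fun heq x
    simp only [MonoidHom.pow_apply] at h
    have hne : χ x ≠ 0 := fun h0 => by
      have : χ x * χ x⁻¹ = 1 := by rw [← map_mul, mul_inv_cancel, map_one]
      rw [h0, zero_mul] at this
      exact zero_ne_one this
    have h2 : χ x ^ a * χ x ^ (b - a) = χ x ^ a * 1 := by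
      rw [← pow_add, Nat.add_sub_cancel' hlt.le, mul_one, h]
    exact mul_left_cancel₀ (pow_ne_zero _ hne) h2
  -- the torsion level
  let K : Subgroup G := (powMonoidHom (b - a) : G →* G).range
  let T := G ⧸ K
  have hT : Monoid.IsTorsion T := fun y => by
    obtain ⟨x, rfl⟩ := QuotientGroup.mk_surjective y
    refine isOfFinOrder_iff_pow_eq_one.2 ⟨b - a, Nat.sub_pos_of_lt hlt, ?_⟩
    rw [← QuotientGroup.mk_pow, QuotientGroup.eq_one_iff]
    exact ⟨x, rfl⟩
  let μ : MonoidAlgebra A G →+* MonoidAlgebra A T := mapDomainRingHom A (QuotientGroup.mk' K)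
  let χT : T →* L := QuotientGroup.lift K χ (by
    rintro _ ⟨x, rfl⟩
    rw [MonoidHom.mem_ker, powMonoidHom_apply, map_pow]
    exact hk x)
  have hfac : (FixedSmooth.L g χT).comp μ = FixedSmooth.L g χ :=
    MonoidAlgebra.ringHom_ext (fun c => by simp [μ, mapDomainRingHom]) (fun m => by simp [μ, mapDomainRingHom, χT]; rfl)
  have huw : IsUnit (Ideal.Quotient.mk (J.map μ) (μ w)) := by
    by_contra hnu'
    obtain ⟨𝔮, h𝔮, hw𝔮⟩ := exists_max_ideal_of_mem_nonunits hnu'
    let 𝔮' : Ideal (MonoidAlgebra A T) := 𝔮.comap (Ideal.Quotient.mk (J.map μ))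
    haveI : 𝔮'.IsMaximal := Ideal.comap_isMaximal_of_surjective _ Ideal.Quotient.mk_surjective
    have hmax : 𝔮'.comap singleOneRingHom = IsLocalRing.maximalIdeal A :=
      IsLocalRing.eq_maximalIdeal
        (Ideal.isMaximal_comap_of_isIntegral_of_isMaximal' _ (TrivAct.isIntegral_singleOne hT) _)
    have h1 : μ r₀ ∈ 𝔮' := by
      have h2 : mA.map μ ≤ 𝔮' := by
        rw [Ideal.map_map, Ideal.map_le_iff_le_comap]
        intro z hz
        rw [← hmax] at hz
        simpa [μ, mapDomainRingHom] using hz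
      exact h2 (Ideal.mem_map_of_mem μ hr₀)
    refine h𝔮.ne_top ((Ideal.eq_top_iff_one _).2 ?_)
    have h3 := 𝔮.add_mem hw𝔮 (h1 : Ideal.Quotient.mk (J.map μ) (μ r₀) ∈ 𝔮)
    simpa [w] using h3
  obtain ⟨v, hv⟩ := huw
  have hker : J.map μ ≤ RingHom.ker (FixedSmooth.L g χT) := Ideal.map_le_iff_le_comap.2 fun j hj => by
    rw [Ideal.mem_comap, RingHom.mem_ker, ← RingHom.comp_apply, hfac]
    exact hχ hj
  have h0 := ((v.isUnit.map (Ideal.Quotient.lift (J.map μ) (FixedSmooth.L g χT) hker))).ne_zero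
  rw [hv, Ideal.Quotient.lift_mk, ← RingHom.comp_apply, hfac] at h0
  exact h0 hwχ

end Groth.Agent.MonoNhd
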